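import Cfsg.Agent.Lib.H9.HN.TCA4.Data
import Cfsg.Agent.Lib.H35.TC
set_option autoImplicit false
set_option maxRecDepth 100000
set_option linter.all false
namespace H9.HN.TCA4
open H35.TC
/-- letters -/
inductive Lt | u | ui | s
  deriving DecidableEq
/-- inverse letter -/
def inv : Lt → Lt
  | .u => .ui
  | .ui => .u
  | .s => .s
/-- table functions -/
noncomputable def T : Lt → ℕ → ℕ
  | .u => T_u
  | .ui => T_ui
  | .s => T_s
/-- decoding of letter codes -/
def lt : ℕ → Lt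
  | 0 => .u
  | 1 => .ui
  | _ => .s
/-- Coxeter matrix (0: no relation) -/
def mm : Lt → Lt → ℕ
  | .s, .s => 1
  | _, _ => 0
/-- extra relators `w ^ n` -/
def extra : List (List Lt × ℕ) := [
  ([.u], 3),
  ([.u, .s], 3),
  ([.u, .ui], 1),
  ([.ui, .u], 1)]
/-- relators -/
def rels : List (List Lt) := mkRels [(.s, .s)] mm extra
/-- subgroup words -/
def subs : List (List Lt) := [
  ]
noncomputable def disp_u (j u : ℕ) : Bool :=
  Bool.rec (motive := fun _ => Bool) (lDef P (nat_lit 0) (Nat.mod (T_u u) M) u) (Bool.rec (motive := fun _ => Bool) (lF1 T_ui M (Nat.sub (T_u u) (Nat.mod (T_u u) M)) (Nat.mod (T_u u) M) u) (lDef P (nat_lit 1) u (Nat.mod (T_u u) M)) (Nat.ble (nat_lit 2) j)) (Nat.ble (nat_lit 1) j)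
noncomputable def chk_u (j u : ℕ) : Bool :=
  Bool.rec (motive := fun _ => Bool) (disp_u j u) (Nat.ble (Nat.succ (MG u)) A) (Nat.ble A (T_u u))
noncomputable def disp_ui (j u : ℕ) : Bool :=
  Bool.rec (motive := fun _ => Bool) (lDef P (nat_lit 1) (Nat.mod (T_ui u) M) u) (Bool.rec (motive := fun _ => Bool) (lDef P (nat_lit 0) u (Nat.mod (T_ui u) M)) (lF [T_ui, T_ui] M (Nat.sub (T_ui u) (Nat.mod (T_ui u) M)) (Nat.mod (T_ui u) M) u) (Nat.ble (nat_lit 2) j)) (Nat.ble (nat_lit 1) j)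
noncomputable def chk_ui (j u : ℕ) : Bool :=
  Bool.rec (motive := fun _ => Bool) (disp_ui j u) (Nat.ble (Nat.succ (MG u)) A) (Nat.ble A (T_ui u))
noncomputable def disp_s (j u : ℕ) : Bool :=
  Bool.rec (motive := fun _ => Bool) (Bool.rec (motive := fun _ => Bool) (lDef P (nat_lit 2) (Nat.mod (T_s u) M) u) (lDef P (nat_lit 2) u (Nat.mod (T_s u) M)) (Nat.ble (nat_lit 1) j)) (Bool.rec (motive := fun _ => Bool) (lF1 T_s M (Nat.sub (T_s u) (Nat.mod (T_s u) M)) (Nat.mod (T_s u) M) u) (Bool.rec (motive := fun _ => Bool) (lF [T_u, T_s, T_u, T_s, T_u] M (Nat.sub (T_s u) (Nat.mod (T_s u) M)) (Nat.mod (T_s u) M) u) (lF [T_ui, T_s, T_ui, T_s, T_ui] M (Nat.sub (T_s u) (Nat.mod (T_s u) M)) (Nat.mod (T_s u) M) u) (Nat.ble (nat_lit 4) j)) (Nat.ble (nat_lit 3) j)) (Nat.ble (nat_lit 2) j)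
noncomputable def chk_s (j u : ℕ) : Bool :=
  Bool.rec (motive := fun _ => Bool) (disp_s j u) (Nat.ble (Nat.succ (MG u)) A) (Nat.ble A (T_s u))
noncomputable def chkM (u : ℕ) : Bool := Nat.ble A (MG u)
noncomputable def chkN (u : ℕ) : Bool :=
  band (chk_u (Nat.land (Nat.shiftRight (RS u) (nat_lit 0)) (nat_lit 15)) u) (band (chk_ui (Nat.land (Nat.shiftRight (RS u) (nat_lit 4)) (nat_lit 15)) u) (band (chk_s (Nat.land (Nat.shiftRight (RS u) (nat_lit 8)) (nat_lit 15)) u) (chkM u)))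
noncomputable def chkP (u : ℕ) : Bool := Bool.rec (motive := fun _ => Bool) (chkN u) true (Nat.ble M u)
noncomputable def liveP (u : ℕ) : Bool := Bool.rec (motive := fun _ => Bool) (Nat.ble A (MG u)) false (Nat.ble M u)
end H9.HN.TCA4
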