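import Mathlib.Init
set_option autoImplicit false
set_option maxRecDepth 100000
set_option linter.all false
namespace H9.HN.TCA4
noncomputable def T_u_0 (i : Nat) : Nat := Nat.land (Nat.shiftRight (nat_lit 0x1631210df288180681) (Nat.mul (nat_lit 6) (Nat.land i (nat_lit 4095)))) (nat_lit 63)
noncomputable abbrev T_u : Nat → Nat := T_u_0
noncomputable def T_ui_0 (i : Nat) : Nat := Nat.land (Nat.shiftRight (nat_lit 0x5855044832c91cd002) (Nat.mul (nat_lit 6) (Nat.land i (nat_lit 4095)))) (nat_lit 63)
noncomputable abbrev T_ui : Nat → Nat := T_ui_0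
noncomputable def T_s_0 (i : Nat) : Nat := Nat.land (Nat.shiftRight (nat_lit 0x4ade93823081005103) (Nat.mul (nat_lit 6) (Nat.land i (nat_lit 4095)))) (nat_lit 63)
noncomputable abbrev T_s : Nat → Nat := T_s_0
noncomputable def P_0 (i : Nat) : Nat := Nat.land (Nat.shiftRight (nat_lit 0xa3420c062c11120404000) (Nat.mul (nat_lit 7) (Nat.land i (nat_lit 4095)))) (nat_lit 127)
noncomputable abbrev P : Nat → Nat := P_0
noncomputable def MG_0 (i : Nat) : Nat := Nat.land (Nat.shiftRight (nat_lit 0xffffffffffffffffff) (Nat.mul (nat_lit 6) (Nat.land i (nat_lit 4095)))) (nat_lit 63)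
noncomputable abbrev MG : Nat → Nat := MG_0
noncomputable def RS_0 (i : Nat) : Nat := Nat.land (Nat.shiftRight (nat_lit 0x422311222311222211100100100022011000) (Nat.mul (nat_lit 12) (Nat.land i (nat_lit 2047)))) (nat_lit 4095)
noncomputable abbrev RS : Nat → Nat := RS_0
noncomputable def MR_0 (i : Nat) : Nat := Nat.land (Nat.shiftRight (nat_lit 0x0) (Nat.mul (nat_lit 1) (Nat.land i (nat_lit 32767)))) (nat_lit 1)
noncomputable abbrev MR : Nat → Nat := MR_0
/-- number of nodes -/
abbrev M : Nat := 12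
/-- absent threshold -/
abbrev A : Nat := 63
end H9.HN.TCA4
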